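import Cfsg.Agent.H60.BaseTwo.Main
import Mathlib.RepresentationTheory.Basic
import Mathlib.Algebra.CharP.Lemmas

/-!
Two vectors with trivial common stabiliser, for representations in any universes.
-/

set_option autoImplicit false
set_option linter.unusedSectionVars false
set_option linter.style.haveILetI false

namespace Cfsg.Agent.H60.BaseTwo

open Cfsg.Agent.H52.RegPair Cfsg.Agent.H86.BaseTwo

universe v w z

/-- The main statement in two universes. -/
theorem two_vectors (hmain : Main.{max v w}) {p : ℕ} [Fact p.Prime] (hp : p ≠ 2) {A : Type v} {V : Type w}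
    [Group A] [Finite A] [AddCommGroup V] [Finite V] [DistribMulAction A V] (hA : Group.IsSolvable A)
    (hcard : ¬ p ∣ Nat.card A) (hV : ∀ x : V, p • x = 0) :
    ∃ x y : V, ∀ a : A, a • x = x → a • y = y → ∀ z : V, a • z = z := by
  letI : DistribMulAction (ULift.{w} A) (ULift.{v} V) :=
    { smul := fun a x => ⟨a.down • x.down⟩
      one_smul := fun x => ULift.ext _ _ (one_smul A x.down)
      mul_smul := fun a b x => ULift.ext _ _ (mul_smul a.down b.down x.down)
      smul_zero := fun a => ULift.ext _ _ (smul_zero a.down)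
      smul_add := fun a x y => ULift.ext _ _ (smul_add a.down x.down y.down) }
  haveI : Group.IsSolvable A := hA
  have hsol : Group.IsSolvable (ULift.{w} A) :=
    solvable_of_solvable_injective (f := (MulEquiv.ulift : ULift.{w} A ≃* A).toMonoidHom)
      MulEquiv.ulift.injective
  obtain ⟨a, b, h⟩ := hmain p hp (ULift.{w} A) (ULift.{v} V) hsol
    (by rwa [Nat.card_congr Equiv.ulift]) fun x => ULift.ext _ _ (hV x.down)
  exact ⟨a.down, b.down, fun g h1 h2 z =>
    congrArg ULift.down (h ⟨g⟩ (ULift.ext _ _ h1) (ULift.ext _ _ h2) ⟨z⟩)⟩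

/-- Two vectors for coprime representations of solvable groups in odd characteristic. -/
theorem two_of_representation {F : Type z} [Field F] [Fintype F] (hF : ringChar F ≠ 2) {V : Type w}
    [AddCommGroup V] [Module F V] [Finite V] {G : Type v} [Group G] [Finite G] [Group.IsSolvable G]
    (hmain : Main.{max v w}) (ρ : Representation F G V) (hfaith : Function.Injective ρ)
    (hcop : (Nat.card G).Coprime (Nat.card V)) :
    ∃ x y : V, ∀ g : G, ρ g x = x → ρ g y = y → g = 1 := by
  set p := ringChar F with hp
  haveI : Fact p.Prime := ⟨CharP.char_is_prime F p⟩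
  have hV : ∀ x : V, p • x = 0 := fun x => by
    rw [← Nat.cast_smul_eq_nsmul F, CharP.cast_eq_zero F p, zero_smul]
  rcases subsingleton_or_nontrivial V with hs | hn
  · exact ⟨0, 0, fun g _ _ => hfaith (LinearMap.ext fun x => Subsingleton.elim _ _)⟩
  have hcard : ¬ p ∣ Nat.card G := by
    intro h
    obtain ⟨x, hx⟩ := exists_ne (0 : V)
    have hord : addOrderOf x = p := addOrderOf_eq_prime (hV x) hx
    exact (Fact.out : p.Prime).ne_one
      (Nat.dvd_one.1 (hcop ▸ Nat.dvd_gcd h (hord ▸ addOrderOf_dvd_natCard x)))
  letI : DistribMulAction G V :=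
    { smul := fun g x => ρ g x
      one_smul := fun x => by show ρ 1 x = x; rw [map_one]; rfl
      mul_smul := fun g h x => by show ρ (g * h) x = ρ g (ρ h x); rw [map_mul]; rfl
      smul_zero := fun g => map_zero (ρ g)
      smul_add := fun g x y => map_add (ρ g) x y }
  obtain ⟨x, y, hxy⟩ := two_vectors hmain hF inferInstance hcard hV
  refine ⟨x, y, fun g h1 h2 => hfaith (LinearMap.ext fun z => ?_)⟩
  rw [map_one]
  exact hxy g h1 h2 z

end Cfsg.Agent.H60.BaseTwo
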