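import Cfsg.Agent.H86.BaseTwo.Spec
import Mathlib.Algebra.Module.ZMod
import Mathlib.GroupTheory.OrderOfElement
import Mathlib.LinearAlgebra.Basis.VectorSpace

/-!
Two vectors with trivial common stabiliser: the reductions to primitive modules.
-/

set_option autoImplicit false
set_option linter.unusedSectionVars false
set_option linter.style.haveILetI false

namespace Cfsg.Agent.H60.BaseTwo

open Cfsg.Agent.H52.RegPair Cfsg.Agent.H86.BaseTwo MulAction
open scoped Pointwise

universe u

/-- Modules of exponent prime to the group are completely reducible. -/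
theorem cr_of_coprime (p : ℕ) [Fact p.Prime] (G : Type u) [Group G] [Finite G] (V : Type u) [AddCommGroup V]
    [DistribMulAction G V] (hG : ¬ p ∣ Nat.card G) (hV : ∀ x : V, p • x = 0) : CR G V := by
  intro U hU
  obtain ⟨_⟩ : Nonempty (Module (ZMod p) V) := ⟨AddCommGroup.zmodModule hV⟩
  letI := Fintype.ofFinite G
  let U' : Submodule (ZMod p) V := AddSubgroup.toZModSubmodule p U
  have hU' : ∀ x : V, x ∈ U' ↔ x ∈ U := fun x => AddSubgroup.mem_toZModSubmodule p
  obtain ⟨π, hπ⟩ := U'.exists_isCompl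
  let P := U'.projectionOnto π hπ
  have hn : (Nat.card G : ZMod p) ≠ 0 := fun h => hG ((ZMod.natCast_eq_zero_iff _ _).1 h)
  have hsc : ∀ (g : G) (c : ZMod p) (x : V), g • (c • x) = c • (g • x) := fun g c x =>
    ZMod.map_smul (DistribMulAction.toAddMonoidHom V g) c x
  let Q : V → V := fun x => (Nat.card G : ZMod p)⁻¹ • ∑ g : G, g • (P (g⁻¹ • x) : V)
  have hQadd : ∀ x y, Q (x + y) = Q x + Q y := fun x y => by
    simp only [Q, ← smul_add, ← Finset.sum_add_distrib]
    congr 1
    refine Finset.sum_congr rfl fun g _ => ?_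
    rw [smul_add, map_add, Submodule.coe_add, smul_add]
  let Qh : V →+ V := AddMonoidHom.mk' Q hQadd
  have hQmem : ∀ x, Q x ∈ U := fun x =>
    (hU' _).1 (U'.smul_mem _ (U'.sum_mem fun g _ => (hU' _).2 (hU g _ ((hU' _).1 (P (g⁻¹ • x)).2))))
  have hQfix : ∀ x ∈ U, Q x = x := fun x hx => by
    have : ∀ g : G, g • (P (g⁻¹ • x) : V) = x := fun g => by
      have hm : g⁻¹ • x ∈ U' := (hU' _).2 (hU g⁻¹ x hx)
      have e : P (g⁻¹ • x) = ⟨g⁻¹ • x, hm⟩ :=
        Submodule.projectionOnto_apply_left hπ ⟨g⁻¹ • x, hm⟩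
      rw [e, smul_inv_smul]
    simp only [Q, this, Finset.sum_const, Finset.card_univ, ← Nat.card_eq_fintype_card]
    rw [← Nat.cast_smul_eq_nsmul (ZMod p), smul_smul, inv_mul_cancel₀ hn, one_smul]
  refine ⟨Qh.ker, fun k x hx => ?_, ?_, ?_⟩
  · rw [AddMonoidHom.mem_ker] at hx ⊢
    show Q (k • x) = 0
    have : Q (k • x) = k • Q x := by
      simp only [Q, hsc, Finset.smul_sum]
      refine Fintype.sum_equiv (Equiv.mulLeft k⁻¹) _ _ fun g => ?_
      simp only [Equiv.coe_mulLeft, ← mul_smul, mul_inv_cancel_left, mul_inv_rev, inv_inv]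
    rw [this, show Q x = 0 from hx, smul_zero]
  · refine (AddSubgroup.eq_bot_iff_forall _).2 fun x hx => ?_
    rw [← hQfix x hx.1]; exact hx.2
  · refine eq_top_iff.2 fun x _ => AddSubgroup.mem_sup.2 ⟨Q x, hQmem x, x - Q x, ?_, add_sub_cancel _ _⟩
    rw [AddMonoidHom.mem_ker, map_sub]
    show Q x - Q (Q x) = 0
    rw [hQfix _ (hQmem x), sub_self]

/-- The inductive hypothesis. -/
def Below (p : ℕ) (G V : Type u) [Group G] [AddCommGroup V] : Prop :=
  ∀ (H : Type u) [Group H] [Finite H] (X : Type u) [AddCommGroup X] [Finite X] [DistribMulAction H X],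
    Nat.card H + Nat.card X < Nat.card G + Nat.card V → Group.IsSolvable H → ¬ p ∣ Nat.card H →
      (∀ x : X, p • x = 0) → Reg1 H X

/-- A regular pair may be taken with nonzero first vector. -/
theorem exists_ne_zero_pair {G V : Type u} [Group G] [AddCommGroup V] [DistribMulAction G V] [Nontrivial V]
    (h : Reg1 G V) : ∃ v w : V, v ≠ 0 ∧ RegVec G V v w := by
  obtain ⟨v, w, hvw⟩ := h
  by_cases hv : v = 0
  · by_cases hw : w = 0
    · obtain ⟨e, he⟩ := exists_ne (0 : V)
      exact ⟨e, 0, he, fun g _ _ => hvw g (by rw [hv, smul_zero]) (by rw [hw, smul_zero])⟩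
    · exact ⟨w, v, hw, fun g h1 h2 => hvw g h2 h1⟩
  · exact ⟨v, w, hv, hvw⟩

theorem reg1_of_reducible (p : ℕ) [Fact p.Prime] (G : Type u) [Group G] [Finite G] (V : Type u)
    [AddCommGroup V] [Finite V] [DistribMulAction G V] (hsol : Group.IsSolvable G) (hG : ¬ p ∣ Nat.card G)
    (hV : ∀ x : V, p • x = 0) (ih : Below p G V) {U : AddSubgroup V} (hU : Inv G V U) (h0 : U ≠ ⊥)
    (h1 : U ≠ ⊤) : Reg1 G V := by
  obtain ⟨W, hW, hdis, hsup⟩ := cr_of_coprime p G V hG hV U hU
  have hW1 : W ≠ ⊤ := fun h => h0 (by rw [h, inf_top_eq] at hdis; exact hdis)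
  have hlt : ∀ S : AddSubgroup V, S ≠ ⊤ → Nat.card S < Nat.card V := fun S hS => by
    obtain ⟨x, hx⟩ : ∃ x, x ∉ S := by
      by_contra hno
      push Not at hno
      exact hS (eq_top_iff.2 fun x _ => hno x)
    exact Finite.card_subtype_lt (x := x) hx
  letI := subAction hU
  obtain ⟨a, b, hab⟩ := ih G U (by have := hlt U h1; omega) hsol hG fun x => Subtype.ext (hV x)
  letI := subAction hW
  obtain ⟨c, d, hcd⟩ := ih G W (by have := hlt W hW1; omega) hsol hG fun x => Subtype.ext (hV x)
  refine ⟨a + c, b + d, fun g hv hw x => ?_⟩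
  have key : ∀ (s : U) (t : W), g • ((s : V) + t) = s + t → g • s = s ∧ g • t = t := by
    intro s t h
    rw [smul_add] at h
    have he : g • (s : V) - s = (t : V) - g • (t : V) := by
      rw [sub_eq_sub_iff_add_eq_add, h, add_comm]
    have hm : g • (s : V) - s ∈ U ⊓ W :=
      ⟨U.sub_mem (hU g _ s.2) s.2, he ▸ W.sub_mem t.2 (hW g _ t.2)⟩
    rw [hdis, AddSubgroup.mem_bot] at hm
    refine ⟨Subtype.ext (sub_eq_zero.1 hm), Subtype.ext ?_⟩
    rw [hm] at he
    exact (sub_eq_zero.1 he.symm).symm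
  obtain ⟨h1, h2⟩ := key a c hv
  obtain ⟨h3, h4⟩ := key b d hw
  have hx : x ∈ U ⊔ W := hsup ▸ AddSubgroup.mem_top x
  obtain ⟨s, hs, t, ht, rfl⟩ := AddSubgroup.mem_sup.1 hx
  rw [smul_add, show g • s = s from congrArg Subtype.val (hab g h1 h3 ⟨s, hs⟩),
    show g • t = t from congrArg Subtype.val (hcd g h2 h4 ⟨t, ht⟩)]

theorem reg1_of_imprim (p : ℕ) [Fact p.Prime] (G : Type u) [Group G] [Finite G] (V : Type u)
    [AddCommGroup V] [Finite V] [DistribMulAction G V] (hsol : Group.IsSolvable G) (hG : ¬ p ∣ Nat.card G)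
    (hV : ∀ x : V, p • x = 0) (hirr : Irr G V) (him : Imprim G V) (ih : Below p G V)
    (hcol : ∀ (Ω : Type u) [MulAction G Ω] [Finite Ω] [Nonempty Ω], ∃ c : Ω → ℕ, (∀ ω, c ω < p) ∧
      ∀ g : G, (∀ ω : Ω, c (g • ω) = c ω) → ∀ ω : Ω, g • ω = ω) : Reg1 G V := by
  classical
  obtain ⟨𝔇, hinv, hnt, hne, hind⟩ := him
  let Ds : SubMulAction G (AddSubgroup V) := ⟨𝔇, fun g D hD => hinv g D hD⟩
  haveI : Finite (AddSubgroup V) := Finite.of_injective (fun D : AddSubgroup V => (D : Set V)) SetLike.coe_injective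
  letI := Fintype.ofFinite Ds
  have hindep : ∀ f : Ds → V, (∀ D : Ds, f D ∈ (D : AddSubgroup V)) → ∑ D, f D = 0 → ∀ D, f D = 0 := by
    intro f hf hsum D
    let s : Finset (AddSubgroup V) := Finset.univ.map (Function.Embedding.subtype _ : Ds ↪ AddSubgroup V)
    let F : AddSubgroup V → V := fun S => if h : S ∈ 𝔇 then f ⟨S, h⟩ else 0
    have hF : ∀ S : Ds, F (S : AddSubgroup V) = f S := fun S =>
      (dif_pos (show (S : AddSubgroup V) ∈ 𝔇 from S.2))
    have h := hind s F (fun S hS => by
        obtain ⟨S', -, rfl⟩ := Finset.mem_map.1 hS; exact S'.2)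
      (fun S hS => by obtain ⟨S', -, rfl⟩ := Finset.mem_map.1 hS; show F S' ∈ _; rw [hF]; exact hf S')
      (by rw [Finset.sum_map]; exact (Finset.sum_congr rfl fun S _ => hF S).trans hsum)
      (D : AddSubgroup V) (Finset.mem_map.2 ⟨D, Finset.mem_univ _, rfl⟩)
    rwa [hF] at h
  obtain ⟨D₀, hD₀, D₁, hD₁, hD01⟩ := hnt
  let B : Ds := ⟨D₀, hD₀⟩
  have htr : ∀ C : Ds, ∃ g : G, g • B = C := by
    intro C
    by_contra hno
    push Not at hno
    let S : AddSubgroup V := ⨆ D : {D : Ds // ∃ g : G, g • B = D}, ((D : Ds) : AddSubgroup V)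
    have hS : Inv G V S := by
      intro g x hx
      refine AddSubgroup.iSup_induction _ (C := fun x => g • x ∈ S) hx (fun D y hy => ?_)
        (by rw [smul_zero]; exact S.zero_mem) (fun y z hy hz => by rw [smul_add]; exact S.add_mem hy hz)
      obtain ⟨k, hk⟩ := D.2
      exact AddSubgroup.mem_iSup_of_mem ⟨g • (D : Ds), g * k, by rw [mul_smul, hk]⟩
        (AddSubgroup.smul_mem_pointwise_smul y g _ hy)
    have hSne : S ≠ ⊥ := fun h => hne D₀ hD₀ (eq_bot_iff.2 (h ▸
      le_iSup (fun D : {D : Ds // ∃ g : G, g • B = D} => ((D : Ds) : AddSubgroup V)) ⟨B, 1, one_smul _ _⟩))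
    have htop := (hirr S hS).resolve_left hSne
    obtain ⟨x, hx, hx0⟩ := (AddSubgroup.bot_or_exists_ne_zero (C : AddSubgroup V)).resolve_left (hne _ C.2)
    have hxS : x ∈ S := htop ▸ AddSubgroup.mem_top x
    obtain ⟨f, hf, hfC, hfx⟩ : ∃ f : Ds → V, (∀ D : Ds, f D ∈ (D : AddSubgroup V)) ∧ f C = 0 ∧ ∑ D, f D = x := by
      refine AddSubgroup.iSup_induction _ (C := fun x => ∃ f : Ds → V,
        (∀ D : Ds, f D ∈ (D : AddSubgroup V)) ∧ f C = 0 ∧ ∑ D, f D = x) hxS ?_ ?_ ?_
      · intro D y hy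
        refine ⟨Pi.single (D : Ds) y, fun E => ?_, ?_, Finset.sum_pi_single' _ _ _ |>.trans (by simp)⟩
        · by_cases h : E = (D : Ds)
          · subst h; rw [Pi.single_eq_same]; exact hy
          · rw [Pi.single_eq_of_ne h]; exact AddSubgroup.zero_mem _
        · obtain ⟨k, hk⟩ := D.2
          exact Pi.single_eq_of_ne (fun h => hno k (hk.trans h.symm)) _
      · exact ⟨0, fun D => AddSubgroup.zero_mem _, rfl, by simp⟩
      · rintro y z ⟨f, hf, hf0, hfy⟩ ⟨f', hf', hf0', hfz⟩
        exact ⟨f + f', fun D => AddSubgroup.add_mem _ (hf D) (hf' D), by simp [hf0, hf0'],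
          by simp [Finset.sum_add_distrib, hfy, hfz]⟩
    have := hindep (f - Pi.single C x) (fun D => by
      rw [Pi.sub_apply]
      refine AddSubgroup.sub_mem _ (hf D) ?_
      by_cases h : D = C
      · subst h; rw [Pi.single_eq_same]; exact hx
      · rw [Pi.single_eq_of_ne h]; exact AddSubgroup.zero_mem _) (by
      simp [Finset.sum_sub_distrib, hfx, Finset.sum_pi_single']) C
    rw [Pi.sub_apply, hfC, Pi.single_eq_same, zero_sub, neg_eq_zero] at this
    exact hx0 this
  choose t ht using htr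
  have ht' : ∀ C : Ds, t C • D₀ = (C : AddSubgroup V) := fun C => congrArg Subtype.val (ht C)
  let H := stabilizer G B
  have hHD : Inv H V D₀ := fun h x hx => by
    rw [Subgroup.smul_def]
    have : (h : G) • D₀ = D₀ := congrArg Subtype.val h.2
    exact this ▸ AddSubgroup.smul_mem_pointwise_smul x (h : G) D₀ hx
  letI := subAction hHD
  have hlt : Nat.card D₀ < Nat.card V := by
    obtain ⟨y, hy, hy0⟩ := (AddSubgroup.bot_or_exists_ne_zero D₁).resolve_left (hne D₁ hD₁)
    refine Finite.card_subtype_lt (x := y) fun hy' => hy0 ?_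
    let C : Ds := ⟨D₁, hD₁⟩
    have hCB : C ≠ B := fun h => hD01 (congrArg Subtype.val h).symm
    have h := hindep (Pi.single C y - Pi.single B y) (fun D => by
      rw [Pi.sub_apply]
      refine AddSubgroup.sub_mem _ ?_ ?_
      · by_cases h : D = C
        · subst h; rw [Pi.single_eq_same]; exact hy
        · rw [Pi.single_eq_of_ne h]; exact AddSubgroup.zero_mem _
      · by_cases h : D = B
        · subst h; rw [Pi.single_eq_same]; exact hy'
        · rw [Pi.single_eq_of_ne h]; exact AddSubgroup.zero_mem _)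
      (by simp [Finset.sum_sub_distrib, Finset.sum_pi_single']) C
    rwa [Pi.sub_apply, Pi.single_eq_same, Pi.single_eq_of_ne hCB, sub_zero] at h
  haveI : Nontrivial D₀ := (AddSubgroup.nontrivial_iff_ne_bot _).2 (hne _ hD₀)
  haveI : Group.IsSolvable G := hsol
  obtain ⟨a, b, ha, hab⟩ := exists_ne_zero_pair (ih H D₀ (by have := Subgroup.card_le_card_group H; omega)
    inferInstance (fun h => hG (h.trans (Subgroup.card_subgroup_dvd_card H))) fun x => Subtype.ext (hV x))
  haveI : Nonempty Ds := ⟨B⟩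
  obtain ⟨col, hcollt, hcolour⟩ := hcol Ds
  have hcomp : ∀ (c : Ds → D₀) (g : G), ∀ d : Ds → D₀, g • (∑ C, t C • (c C : V)) = ∑ C, t C • (d C : V) →
      ∀ C, g • t C • (c C : V) = t (g • C) • (d (g • C) : V) := by
    intro c g d hg C
    let u : Ds → V := fun C => t C • (c C : V)
    let u' : Ds → V := fun C => t C • (d C : V)
    have hu' : ∀ D : Ds, u' D ∈ (D : AddSubgroup V) := fun D => by
      rw [← ht' D]
      exact AddSubgroup.smul_mem_pointwise_smul _ _ _ (d D).2
    have hu : ∀ D : Ds, u D ∈ (D : AddSubgroup V) := fun D => by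
      rw [← ht' D]
      exact AddSubgroup.smul_mem_pointwise_smul _ _ _ (c D).2
    have hsum : ∑ D, (g • u (g⁻¹ • D) - u' D) = 0 := by
      rw [Finset.sum_sub_distrib, sub_eq_zero, ← Finset.smul_sum]
      exact (congrArg (g • ·) (Equiv.sum_comp (MulAction.toPerm g⁻¹) u)).trans hg
    have h := hindep (fun D => g • u (g⁻¹ • D) - u' D) (fun D => by
      refine AddSubgroup.sub_mem _ ?_ (hu' D)
      have := AddSubgroup.smul_mem_pointwise_smul _ g _ (hu (g⁻¹ • D))
      rwa [show g • ((g⁻¹ • D : Ds) : AddSubgroup V) = D from smul_inv_smul g (D : AddSubgroup V)] at this) hsum (g • C)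
    rw [inv_smul_smul, sub_eq_zero] at h
    exact h
  refine ⟨∑ C, t C • (a : V), ∑ C, t C • ((b + col C • a : D₀) : V), fun g hv hw => ?_⟩
  have hmove : ∀ C, ∃ h : H, (h : G) = (t (g • C))⁻¹ * g * t C ∧
      h • a = a ∧ h • (b + col C • a) = b + col (g • C) • a := by
    intro C
    have hst : (t (g • C))⁻¹ * g * t C ∈ H := by
      rw [mem_stabilizer_iff, mul_smul, mul_smul, ht C, inv_smul_eq_iff, ht (g • C)]
    refine ⟨⟨_, hst⟩, rfl, Subtype.ext ?_, Subtype.ext ?_⟩
    · show ((t (g • C))⁻¹ * g * t C) • (a : V) = _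
      rw [mul_smul, mul_smul, hcomp (fun _ => a) g (fun _ => a) hv C, inv_smul_smul]
    · show ((t (g • C))⁻¹ * g * t C) • ((b + col C • a : D₀) : V) = _
      rw [mul_smul, mul_smul, hcomp (fun D => b + col D • a) g (fun D => b + col D • a) hw C, inv_smul_smul]
  have hcolfix : ∀ C, col (g • C) = col C := by
    intro C
    obtain ⟨h, -, h1, h2⟩ := hmove C
    set d : ℤ := (col (g • C) : ℤ) - (col C : ℤ) with hd
    have hfix : ∀ m : ℕ, h • (m • a) = m • a := fun m => by rw [smul_comm, h1]
    have hb : h • b = b + d • a := by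
      rw [smul_add, hfix, ← eq_sub_iff_add_eq] at h2
      rw [h2, hd, sub_smul, natCast_zsmul, natCast_zsmul]
      abel
    have hpow : ∀ m : ℕ, h ^ m • b = b + (m * d : ℤ) • a := by
      intro m
      induction m with
      | zero => simp
      | succ m ihm =>
        rw [pow_succ', mul_smul, ihm, smul_add, hb, smul_comm, h1, add_assoc, ← add_smul]
        push_cast
        ring_nf
    have h0 := hpow (orderOf h)
    rw [pow_orderOf_eq_one, one_smul, left_eq_add] at h0
    have hord : addOrderOf a = p := addOrderOf_eq_prime (Subtype.ext (hV a)) ha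
    have hdvd : (p : ℤ) ∣ orderOf h * d := by
      rw [← hord]; exact addOrderOf_dvd_iff_zsmul_eq_zero.2 h0
    rcases (Nat.prime_iff_prime_int.1 (Fact.out : p.Prime)).dvd_or_dvd hdvd with h' | h'
    · exact absurd ((Int.natCast_dvd_natCast.1 h').trans
        ((orderOf_dvd_natCard h).trans (Subgroup.card_subgroup_dvd_card H))) hG
    · have hl1 := hcollt C
      have hl2 := hcollt (g • C)
      have := Int.eq_zero_of_abs_lt_dvd h' (by rw [abs_lt]; omega)
      omega
  have hall := hcolour g hcolfix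
  have hfixD : ∀ (C : Ds) (x : V), x ∈ (C : AddSubgroup V) → g • x = x := by
    intro C x hx
    rw [← ht' C] at hx
    obtain ⟨y, hy, rfl⟩ := hx
    show g • (t C • y) = t C • y
    obtain ⟨h, hh, h1, h2⟩ := hmove C
    have hb : h • b = b := by
      rw [smul_add, hcolfix, smul_comm, h1] at h2
      exact add_right_cancel h2
    have := congrArg Subtype.val (hab h h1 hb ⟨y, hy⟩)
    change (h : G) • y = y at this
    rw [hh, hall C, mul_smul, mul_smul, inv_smul_eq_iff] at this
    exact this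
  intro x
  have htop : (⨆ C : Ds, (C : AddSubgroup V)) = ⊤ := by
    refine (hirr _ (fun g x hx => ?_)).resolve_left
      (fun h => hne D₀ hD₀ (eq_bot_iff.2 (h ▸ le_iSup (fun C : Ds => (C : AddSubgroup V)) B)))
    refine AddSubgroup.iSup_induction _ (C := fun x => g • x ∈ _) hx (fun C y hy => ?_)
      (by rw [smul_zero]; exact AddSubgroup.zero_mem _)
      (fun y z hy hz => by rw [smul_add]; exact AddSubgroup.add_mem _ hy hz)
    exact AddSubgroup.mem_iSup_of_mem (g • C) (AddSubgroup.smul_mem_pointwise_smul y g _ hy)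
  have hx : x ∈ ⨆ C : Ds, (C : AddSubgroup V) := htop ▸ AddSubgroup.mem_top x
  exact AddSubgroup.iSup_induction _ (C := fun x => g • x = x) hx hfixD (smul_zero g)
    (fun y z hy hz => by rw [smul_add, hy, hz])

/-- Two vectors with trivial common stabiliser, given the colourings and the primitive case. -/
theorem main (h5 : Cfsg.Agent.H86.BaseThree.ColourAll.{u}) (h3 : ColourAll3.{u}) (hprim : PrimitiveStep.{u}) :
    Main.{u} := by
  intro p _ hp G _ _ V _ _ _ hsol hG hV
  induction hn : Nat.card G + Nat.card V using Nat.strong_induction_on generalizing G V with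
  | _ n ih =>
    have hbelow : Below p G V := fun H _ _ X _ _ _ hlt hH hpH hX => ih _ (hn ▸ hlt) H X hH hpH hX rfl
    cases subsingleton_or_nontrivial V with
    | inl hs => exact ⟨0, 0, fun g _ _ x => Subsingleton.elim _ _⟩
    | inr hnt =>
    let f := DistribMulAction.toAddMonoidEnd G V
    by_cases hker : f.ker = ⊥
    · haveI : FaithfulSMul G V := ⟨fun {g h} hgh =>
        (f.ker_eq_bot_iff.1 hker) (AddMonoidHom.ext hgh)⟩
      by_cases hirr : Irr G V
      · by_cases him : Imprim G V
        · refine reg1_of_imprim p G V hsol hG hV hirr him hbelow fun Ω _ _ _ => ?_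
          by_cases hp3 : p = 3
          · subst hp3
            obtain ⟨c, hc⟩ := h3 G Ω hsol hG
            exact ⟨fun ω => (c ω : ℕ), fun ω => (c ω).2, fun g hg => hc g fun ω => Fin.ext (hg ω)⟩
          · have hp5 : 5 ≤ p := by
              have h2 := (Fact.out : p.Prime).two_le
              rcases eq_or_ne p 4 with rfl | h4
              · exact absurd (Fact.out : Nat.Prime 4) (by norm_num)
              · omega
            obtain ⟨c, hc⟩ := h5 G Ω hsol
            exact ⟨fun ω => (c 0 ω : ℕ), fun ω => lt_of_lt_of_le (c 0 ω).2 hp5,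
              fun g hg => (hc 0 0 g fun ω => Fin.ext (hg ω)).2⟩
        · exact hprim p hp G V hsol hG hV hirr him
      · simp only [Irr, not_forall] at hirr
        obtain ⟨U, hU, hne⟩ := hirr
        rw [not_or] at hne
        exact reg1_of_reducible p G V hsol hG hV hbelow hU hne.1 hne.2
    · let φ : (G ⧸ f.ker) →* AddMonoid.End V := QuotientGroup.lift f.ker f le_rfl
      letI : DistribMulAction (G ⧸ f.ker) V :=
        { smul := fun a v => φ a v
          one_smul := fun v => DFunLike.congr_fun (map_one φ) v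
          mul_smul := fun a b v => DFunLike.congr_fun (map_mul φ a b) v
          smul_zero := fun a => map_zero (φ a)
          smul_add := fun a x y => map_add (φ a) x y }
      have hmk : ∀ (g : G) (v : V), (QuotientGroup.mk g : G ⧸ f.ker) • v = g • v := fun g v => rfl
      have hlt : Nat.card (G ⧸ f.ker) + Nat.card V < Nat.card G + Nat.card V := by
        refine Nat.add_lt_add_right ?_ _
        rw [Subgroup.card_eq_card_quotient_mul_card_subgroup f.ker]
        exact lt_mul_of_one_lt_right Nat.card_pos (f.ker.one_lt_card_iff_ne_bot.2 hker)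
      haveI : Group.IsSolvable G := hsol
      obtain ⟨v, w, hvw⟩ := hbelow (G ⧸ f.ker) V hlt inferInstance
        (fun h => hG (h.trans (Subgroup.card_quotient_dvd_card f.ker))) hV
      exact ⟨v, w, fun g h1 h2 x => by
        rw [← hmk]; exact hvw (QuotientGroup.mk g) ((hmk g v).trans h1) ((hmk g w).trans h2) x⟩

end Cfsg.Agent.H60.BaseTwo
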